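import Mathlib
import Groth.Agent.FlatMor2.NilFlat

/-!
Flatness modulo powers of a non-zero-divisor.
-/

open scoped TensorProduct

namespace Groth.CartModH

universe u

variable {A B : Type u} [CommRing A] [AddCommGroup B] [Module A B]

theorem mem_pow_of_smul_tmul_eq_zero (t : A) (n : ℕ)
    (hB : ∀ x : B, t • x = 0 → x = 0)
    (m : (A ⧸ (Ideal.span {t} ^ (n + 1))) ⊗[A] B) (hm : t • m = 0) :
    ∃ m', m = t ^ n • m' := by
  obtain ⟨b, rfl⟩ := TensorProduct.mk_surjective A B (A ⧸ (Ideal.span {t} ^ (n + 1))) Ideal.Quotient.mk_surjective m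
  have h := congrArg (TensorProduct.quotTensorEquivQuotSMul B (Ideal.span {t} ^ (n + 1))) hm
  rw [map_smul, map_zero, TensorProduct.mk_apply,
    ← map_one (Ideal.Quotient.mk (Ideal.span {t} ^ (n + 1))),
    TensorProduct.quotTensorEquivQuotSMul_mk_tmul, one_smul, ← Submodule.Quotient.mk_smul,
    Submodule.Quotient.mk_eq_zero, Ideal.span_singleton_pow, Submodule.ideal_span_singleton_smul,
    Submodule.mem_smul_pointwise_iff_exists] at h
  obtain ⟨y, -, hy⟩ := h
  have : b = t ^ n • y := by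
    refine sub_eq_zero.1 (hB _ ?_)
    rw [smul_sub, smul_smul, ← pow_succ', hy, sub_self]
  exact ⟨(1 : A ⧸ (Ideal.span {t} ^ (n + 1))) ⊗ₜ y, by rw [this, ← TensorProduct.tmul_smul, TensorProduct.mk_apply]⟩

/-- If `t` is regular on `B` and `B` is flat mod `t`, it is flat mod every power of `t`. -/
theorem flat_mod_pow (t : A) (hB : ∀ x : B, t • x = 0 → x = 0)
    [Module.Flat (A ⧸ Ideal.span {t}) ((A ⧸ Ideal.span {t}) ⊗[A] B)] (n : ℕ) :
    Module.Flat (A ⧸ (Ideal.span {t} ^ (n + 1))) ((A ⧸ (Ideal.span {t} ^ (n + 1))) ⊗[A] B) := by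
  set R := A ⧸ (Ideal.span {t} ^ (n + 1))
  letI : Algebra R (A ⧸ Ideal.span {t}) :=
    (Ideal.Quotient.factor (Ideal.pow_le_self n.succ_ne_zero)).toAlgebra
  haveI : IsScalarTower A R (A ⧸ Ideal.span {t}) := IsScalarTower.of_algebraMap_eq fun a => rfl
  have hsurj : Function.Surjective (algebraMap R (A ⧸ Ideal.span {t})) :=
    Ideal.Quotient.factor_surjective _
  have hker : ∀ r ∈ RingHom.ker (algebraMap R (A ⧸ Ideal.span {t})), ∃ s : R, r = algebraMap A R t * s := by
    intro r hr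
    obtain ⟨a, rfl⟩ := Ideal.Quotient.mk_surjective r
    have : a ∈ Ideal.span {t} := Ideal.Quotient.eq_zero_iff_mem.1 hr
    obtain ⟨c, rfl⟩ := Ideal.mem_span_singleton.1 this
    exact ⟨Ideal.Quotient.mk _ c, (map_mul _ _ _)⟩
  have hmem : algebraMap A R t ∈ RingHom.ker (algebraMap R (A ⧸ Ideal.span {t})) :=
    Ideal.Quotient.eq_zero_iff_mem.2 (Ideal.mem_span_singleton_self t)
  haveI : Module.Flat (A ⧸ Ideal.span {t}) ((A ⧸ Ideal.span {t}) ⊗[R] (R ⊗[A] B)) :=
    Module.Flat.of_linearEquiv (TensorProduct.AlgebraTensorModule.cancelBaseChange A R (A ⧸ Ideal.span {t}) (A ⧸ Ideal.span {t}) B)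
  refine Groth.FlatMor2.flat_of_nilpotent_ker hsurj ⟨n + 1, ?_⟩ ?_
  · rw [Ideal.zero_eq_bot, eq_bot_iff]
    refine (Ideal.pow_right_mono (show _ ≤ Ideal.span {algebraMap A R t} from fun r hr => ?_) _).trans ?_
    · obtain ⟨s, rfl⟩ := hker r hr
      exact Ideal.mul_mem_right _ _ (Ideal.mem_span_singleton_self _)
    · have hpow : Ideal.span {algebraMap A R t} ^ (n + 1) = Ideal.span {algebraMap A R t ^ (n + 1)} :=
        Ideal.span_singleton_pow _ _
      refine hpow.le.trans (Ideal.span_le.2 (Set.singleton_subset_iff.2 ?_))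
      show algebraMap A R t ^ (n + 1) = 0
      rw [← map_pow]
      exact Ideal.Quotient.eq_zero_iff_mem.2 (Ideal.pow_mem_pow (Ideal.mem_span_singleton_self t) _)
  · rw [injective_iff_map_eq_zero]
    intro z hz
    have hz' : ∃ m : R ⊗[A] B, z = (⟨algebraMap A R t, hmem⟩ : RingHom.ker (algebraMap R (A ⧸ Ideal.span {t}))) ⊗ₜ m := by
      clear hz
      induction z with
      | zero => exact ⟨0, (TensorProduct.tmul_zero _ _).symm⟩
      | tmul r m =>
        obtain ⟨s, hs⟩ := hker r r.2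
        refine ⟨s • m, ?_⟩
        rw [← TensorProduct.smul_tmul]
        exact congrArg (· ⊗ₜ m) (Subtype.ext (hs.trans (mul_comm _ _)))
      | add x y hx hy =>
        obtain ⟨mx, rfl⟩ := hx
        obtain ⟨my, rfl⟩ := hy
        exact ⟨mx + my, (TensorProduct.tmul_add _ _ _).symm⟩
    obtain ⟨m, rfl⟩ := hz'
    rw [LinearMap.rTensor_tmul] at hz
    have h0 : t • m = 0 := by
      have h1 := congrArg (TensorProduct.lid R (R ⊗[A] B)) hz
      rw [TensorProduct.lid_tmul, map_zero] at h1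
      rwa [← algebraMap_smul R t m]
    obtain ⟨m', rfl⟩ := mem_pow_of_smul_tmul_eq_zero t n hB m h0
    rw [← algebraMap_smul R (t ^ n) m', ← TensorProduct.smul_tmul]
    refine (congrArg (· ⊗ₜ m') (Subtype.ext ?_)).trans (TensorProduct.zero_tmul _ m')
    show algebraMap A R (t ^ n) * algebraMap A R t = 0
    rw [← map_mul, ← pow_succ]
    exact Ideal.Quotient.eq_zero_iff_mem.2 (Ideal.pow_mem_pow (Ideal.mem_span_singleton_self t) _)

/-- If `B` is flat mod every power of `t`, regular on `A`, and `B` is separated, then `t` is regular on `B`. -/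
theorem eq_zero_of_flat_mod_pow (t : A) (hA : ∀ x : A, t * x = 0 → x = 0)
    [IsHausdorff (Ideal.span {t}) B]
    (h : ∀ n : ℕ, Module.Flat (A ⧸ (Ideal.span {t} ^ (n + 1))) ((A ⧸ (Ideal.span {t} ^ (n + 1))) ⊗[A] B))
    (x : B) (hx : t • x = 0) : x = 0 := by
  refine IsHausdorff.haus' (I := Ideal.span {t}) x fun n => ?_
  rw [SModEq.zero]
  haveI := h n
  set R := A ⧸ (Ideal.span {t} ^ (n + 1))
  have hex : Function.Exact (LinearMap.mulLeft R (algebraMap A R (t ^ n))) (LinearMap.mulLeft R (algebraMap A R t)) := by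
    intro r
    constructor
    · intro hr
      obtain ⟨a, rfl⟩ := Ideal.Quotient.mk_surjective r
      have : t * a ∈ Ideal.span {t} ^ (n + 1) := Ideal.Quotient.eq_zero_iff_mem.1 ((map_mul _ _ _).trans hr)
      rw [Ideal.span_singleton_pow, Ideal.mem_span_singleton] at this
      obtain ⟨c, hc⟩ := this
      have : a = t ^ n * c := by
        refine sub_eq_zero.1 (hA _ ?_)
        rw [mul_sub, hc, pow_succ', mul_assoc, sub_self]
      exact ⟨Ideal.Quotient.mk _ c, by rw [this, map_mul]; rfl⟩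
    · rintro ⟨c, rfl⟩
      show algebraMap A R t * (algebraMap A R (t ^ n) * c) = 0
      rw [← mul_assoc, ← map_mul, ← pow_succ', show algebraMap A R (t ^ (n + 1)) = 0 from
        Ideal.Quotient.eq_zero_iff_mem.2 (Ideal.pow_mem_pow (Ideal.mem_span_singleton_self t) _), zero_mul]
  have hex' := Module.Flat.rTensor_exact (R ⊗[A] B) hex
  have hz : (LinearMap.mulLeft R (algebraMap A R t)).rTensor (R ⊗[A] B) ((1 : R) ⊗ₜ ((1 : R) ⊗ₜ x)) = 0 := by
    rw [LinearMap.rTensor_tmul, LinearMap.mulLeft_apply, mul_one,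
      show algebraMap A R t = algebraMap A R t • (1 : R) by rw [smul_eq_mul, mul_one],
      TensorProduct.smul_tmul, algebraMap_smul, ← TensorProduct.tmul_smul, hx,
      TensorProduct.tmul_zero, TensorProduct.tmul_zero]
  obtain ⟨w, hw⟩ := (hex' _).1 hz
  have hsm : ∀ z, TensorProduct.lid R (R ⊗[A] B) ((LinearMap.mulLeft R (algebraMap A R (t ^ n))).rTensor (R ⊗[A] B) z) =
      t ^ n • TensorProduct.lid R (R ⊗[A] B) z := by
    intro z
    induction z with
    | zero => simp
    | tmul r m => rw [LinearMap.rTensor_tmul, TensorProduct.lid_tmul, TensorProduct.lid_tmul,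
        LinearMap.mulLeft_apply, mul_smul, algebraMap_smul]
    | add a b ha hb => simp only [map_add, ha, hb, smul_add]
  have h2 := hsm w
  rw [hw, TensorProduct.lid_tmul, one_smul] at h2
  have h3 := congrArg (TensorProduct.quotTensorEquivQuotSMul B (Ideal.span {t} ^ (n + 1))) h2
  rw [map_smul, ← map_one (Ideal.Quotient.mk (Ideal.span {t} ^ (n + 1))),
    TensorProduct.quotTensorEquivQuotSMul_mk_tmul, one_smul] at h3
  obtain ⟨q, hq⟩ := Submodule.mkQ_surjective _ (TensorProduct.quotTensorEquivQuotSMul B (Ideal.span {t} ^ (n + 1))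
    (TensorProduct.lid R (R ⊗[A] B) w))
  rw [← hq, Submodule.mkQ_apply, ← Submodule.Quotient.mk_smul, Submodule.Quotient.eq] at h3
  have : x = (x - t ^ n • q) + t ^ n • q := (sub_add_cancel _ _).symm
  rw [this]
  refine add_mem (Submodule.smul_mono (Ideal.pow_le_pow_right n.le_succ) le_rfl h3)
    (Submodule.smul_mem_smul (Ideal.pow_mem_pow (Ideal.mem_span_singleton_self t) _) Submodule.mem_top)

end Groth.CartModH
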